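import Mathlib
import Cfsg.Prelude.Def_Blocks
import Cfsg.Prelude.Def_Solvable

/-!
# Project OB (helper16): groups with exactly one `p`-block — definitions

`LocalHyp p G` : every element `z` of order `p` has, inside its centraliser, a `p`-subgroup `Q`
that is normalised by `C_G(z)` and self-centralising there (`C_G(z)` is `p`-constrained with trivial
`p'`-core).

`DZCert p G` : a finite certificate that `G` has no irreducible character of `p`-defect zero
(used with `k` = an enumeration of a class of `p`-central elements of order `p`).
-/

set_option autoImplicit false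

namespace Cfsg.Agent.Lib.Helper16.OneBlk

/-- every element of order `p` has a self-centralising normal `p`-subgroup in its centraliser -/
def LocalHyp (p : ℕ) (G : Type*) [Group G] : Prop :=
  ∀ z : G, orderOf z = p → ∃ Q : Subgroup G, IsPGroup p Q ∧
    Q ≤ Subgroup.centralizer ({z} : Set G) ∧
    (∀ c ∈ Subgroup.centralizer ({z} : Set G), ∀ q ∈ Q, c * q * c⁻¹ ∈ Q) ∧
    (∀ c ∈ Subgroup.centralizer ({z} : Set G), (∀ q ∈ Q, c * q = q * c) → c ∈ Q)

/-- certificate for the absence of irreducible characters of `p`-defect zero:
an injective enumeration `k : Fin N → G` of a conjugation-invariant set of `p`-singular elements,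
elements `x i` (representatives of the classes of elements whose centraliser has order prime to `p`),
a labelling of the products `k n * x i` by the representative they are conjugate to (`none`: conjugate
to none of them), such that the numbers `#{n : k n * x i ∼ x j}` are `δ_ij` modulo `p`. -/
structure DZCert (p : ℕ) (G : Type*) [Group G] where
  N : ℕ
  k : Fin N → G
  t : ℕ
  x : Fin t → G
  lab : Fin t → Fin N → Option (Fin t)
  kinj : Function.Injective k
  Kconj : ∀ (g : G) (n : Fin N), ∃ m : Fin N, g * k n * g⁻¹ = k m
  Ksing : ∀ n : Fin N, p ∣ orderOf (k n)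
  complete : ∀ g : G, (∃ s : G, orderOf s = p ∧ s * g = g * s) ∨ ∃ i : Fin t, IsConj g (x i)
  lab_some : ∀ (i : Fin t) (n : Fin N) (j : Fin t), lab i n = some j → IsConj (k n * x i) (x j)
  lab_none : ∀ (i : Fin t) (n : Fin N), lab i n = none → ∀ j : Fin t, ¬ IsConj (k n * x i) (x j)
  count : ∀ i j : Fin t,
    (((Finset.univ.filter (fun n : Fin N => lab i n = some j)).card : ℕ) : ZMod p) =
      if i = j then 1 else 0

end Cfsg.Agent.Lib.Helper16.OneBlk
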